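import Mathlib
import Cfsg.Agent.OddOrderCharacters.IndRes
import Cfsg.Agent.S0174

/-!
# Restriction to a complement of a normal subgroup

`X = P ⋊ H`:

* `indFun_compl`: `(a^X)(h) = |C_P(h)| a(h)` for a class function `a` of `H`;
* `sum_norm_sq`: `∑_ψ |[ψ_H, a]|² = 1/|H| ∑_h |C_P(h)| |a(h)|²`, the sum over `Irr(X)`;
* `sum_over_self`: `∑ [φ_L, φ_L] = |H : L|`, the sum over the irreducible characters `φ` of `H` over
  an irreducible character of the normal subgroup `L`.
-/

set_option autoImplicit false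

open Cfsg
open scoped ComplexConjugate

namespace Cfsg.Agent.H709.TI

open Cfsg.Agent.Characters.Core Cfsg.Agent.OddOrderCharacters.IndRes
  Cfsg.Agent.OddOrderCharacters.NormalInduced

section compl

variable {X : Type*} [Group X] [Fintype X] {P H : Subgroup X} [hPn : P.Normal]

omit [Fintype X] in
theorem conj_mem_iff (hc : Subgroup.IsComplement' P H) {u : X} (hu : u ∈ P) {h : X} (hh : h ∈ H) :
    u⁻¹ * h * u ∈ H ↔ u ∈ Subgroup.centralizer {h} := by
  constructor
  · intro h1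
    have h2 : u⁻¹ * h * u * h⁻¹ ∈ H := mul_mem h1 (inv_mem hh)
    have h3 : u⁻¹ * h * u * h⁻¹ ∈ P := by
      have h4 : u⁻¹ * h * u * h⁻¹ = u⁻¹ * (h * u * h⁻¹) := by group
      rw [h4]
      exact mul_mem (inv_mem hu) (hPn.conj_mem u hu h)
    have h5 : u⁻¹ * h * u * h⁻¹ ∈ P ⊓ H := ⟨h3, h2⟩
    rw [hc.disjoint.eq_bot, Subgroup.mem_bot] at h5
    rw [Subgroup.mem_centralizer_singleton_iff]
    have h6 : h * u = u * h := by
      calc h * u = u * (u⁻¹ * h * u * h⁻¹) * h := by group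
        _ = u * h := by rw [h5, mul_one]
    exact h6.symm
  · intro h1
    rw [Subgroup.mem_centralizer_singleton_iff] at h1
    have : u⁻¹ * h * u = h := by
      rw [mul_assoc, ← h1, inv_mul_cancel_left]
    rwa [this]

/-- The value of an induced class function at an element of the complement. -/
theorem indFun_compl (hc : Subgroup.IsComplement' P H) {a : H → ℂ} (ha : IsClassFunction H a)
    (h : H) : indFun H a (h : X) =
      (Nat.card ↥(P ⊓ Subgroup.centralizer {(h : X)}) : ℂ) * a h := by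
  classical
  have := Fintype.ofFinite P
  have := Fintype.ofFinite H
  rw [indFun_apply]
  let E : P × H ≃ X := Equiv.ofBijective (fun x : P × H => (x.1 : X) * (x.2 : X)) hc
  rw [← Equiv.sum_comp E, Fintype.sum_prod_type]
  have h1 : ∀ (u : P) (k : H), extendByZero H a ((E (u, k))⁻¹ * h * E (u, k)) =
      if (u : X) ∈ Subgroup.centralizer {(h : X)} then a h else 0 := by
    intro u k
    have hE : E (u, k) = (u : X) * (k : X) := rfl
    rw [hE]
    have e1 : ((u : X) * (k : X))⁻¹ * h * ((u : X) * (k : X)) =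
        (k : X)⁻¹ * ((u : X)⁻¹ * h * u) * k := by group
    rw [e1]
    split_ifs with hu
    · have e2 : (u : X)⁻¹ * h * u = h := by
        rw [Subgroup.mem_centralizer_singleton_iff] at hu
        rw [mul_assoc, ← hu, inv_mul_cancel_left]
      rw [e2]
      have e3 : (k : X)⁻¹ * h * k = ((k⁻¹ * h * k : H) : X) := by push_cast; rfl
      rw [e3, extendByZero_of_mem H a (k⁻¹ * h * k).2]
      have := ha h k⁻¹
      rw [inv_inv] at this
      exact this
    · apply extendByZero_of_notMem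
      intro h2
      apply hu
      rw [← conj_mem_iff hc u.2 h.2]
      have h3 : (u : X)⁻¹ * h * u = k * ((k : X)⁻¹ * ((u : X)⁻¹ * h * u) * k) * (k : X)⁻¹ := by
        group
      rw [h3]
      exact mul_mem (mul_mem k.2 h2) (inv_mem k.2)
  rw [Finset.sum_congr rfl fun u _ => Finset.sum_congr rfl fun k _ => h1 u k]
  simp only [Finset.sum_const, Finset.card_univ, nsmul_eq_mul]
  rw [← Finset.mul_sum, ← Finset.sum_filter, Finset.sum_const, nsmul_eq_mul]
  have h2 : (Finset.univ.filter fun u : P => (u : X) ∈ Subgroup.centralizer {(h : X)}).card =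
      Nat.card ↥(P ⊓ Subgroup.centralizer {(h : X)}) := by
    rw [← Fintype.card_subtype, ← Nat.card_eq_fintype_card]
    refine Nat.card_congr ⟨fun u => ⟨u.1.1, u.1.2, u.2⟩, fun u => ⟨⟨u.1, u.2.1⟩, u.2.2⟩,
      fun u => rfl, fun u => rfl⟩
  rw [h2, ← Nat.card_eq_fintype_card, ← mul_assoc]
  rw [inv_mul_cancel₀ (card_ne_zero_complex (G := H)), one_mul]

/-- The norms of the restrictions of the irreducible characters to the complement. -/
theorem sum_norm_sq [Fintype H] [Fintype (IrrCharacter X)] (hc : Subgroup.IsComplement' P H)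
    {a : H → ℂ} (ha : IsClassFunction H a) :
    ∑ ψ : IrrCharacter X, ‖classInner (res H (ψ : X → ℂ)) a‖ ^ 2 =
      (Nat.card H : ℝ)⁻¹ * ∑ h : H,
        (Nat.card ↥(P ⊓ Subgroup.centralizer {(h : X)}) : ℝ) * ‖a h‖ ^ 2 := by
  classical
  have h1 : (((∑ ψ : IrrCharacter X, ‖classInner (res H (ψ : X → ℂ)) a‖ ^ 2 : ℝ)) : ℂ) =
      classInner (indFun H a) (indFun H a) := by
    rw [classInner_eq_sum (isClassFunction_indFun H a) (isClassFunction_indFun H a)]
    push_cast
    refine Finset.sum_congr rfl fun ψ _ => ?_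
    rw [← classInner_indFun_right H a (isIrr_isClassFunction ψ.2),
      ← classInner_conj_symm (indFun H a) (ψ : X → ℂ), RCLike.norm_conj,
      Complex.mul_conj, Complex.normSq_eq_norm_sq]
    push_cast
    rfl
  have h2 : classInner (indFun H a) (indFun H a) = (((Nat.card H : ℝ)⁻¹ * ∑ h : H,
        (Nat.card ↥(P ⊓ Subgroup.centralizer {(h : X)}) : ℝ) * ‖a h‖ ^ 2 : ℝ) : ℂ) := by
    rw [classInner_indFun_right H a (isClassFunction_indFun H a), classInner_def]
    push_cast
    congr 1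
    refine Finset.sum_congr rfl fun h _ => ?_
    rw [res_apply, indFun_compl hc ha, mul_assoc, Complex.mul_conj, Complex.normSq_eq_norm_sq]
    push_cast
    rfl
  rw [h2] at h1
  exact_mod_cast h1

end compl

section clifford

variable {H : Type*} [Group H] [Fintype H] {L : Subgroup H} [hL : L.Normal]

/-- The irreducible characters of `H` over the function `θ` of `L`. -/
def OverSet (L : Subgroup H) [Fintype L] (θ : L → ℂ) : Set (IrrCharacter H) :=
  {φ | classInner (res L (φ : H → ℂ)) θ ≠ 0}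

omit hL in
theorem one_le_of_over [Fintype L] {θ : L → ℂ} (hθ : IsIrrCharacter L θ) {φ φ' : IrrCharacter H}
    (h : φ ∈ OverSet L θ) (h' : φ' ∈ OverSet L θ) :
    1 ≤ (classInner (res L (φ : H → ℂ)) (res L (φ' : H → ℂ))).re := by
  classical
  have : Finite (IrrCharacter L) := finite_irr
  have := Fintype.ofFinite (IrrCharacter L)
  have h1 := classInner_eq_sum (f := res L (φ : H → ℂ)) (f' := res L (φ' : H → ℂ))
    (isClassFunction_res L (isIrr_isClassFunction φ.2))
    (isClassFunction_res L (isIrr_isClassFunction φ'.2))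
  have hn : ∀ (φ : IrrCharacter H) (η : IrrCharacter L),
      ∃ n : ℕ, classInner (res L (φ : H → ℂ)) (η : L → ℂ) = n := fun φ η =>
    classInner_isNat (isCharacter_res L (isIrr_isCharacter φ.2)) (isIrr_isCharacter η.2)
  choose n hn using hn
  have h2 : classInner (res L (φ : H → ℂ)) (res L (φ' : H → ℂ)) =
      ((∑ η : IrrCharacter L, n φ η * n φ' η : ℕ) : ℂ) := by
    rw [h1]
    push_cast
    exact Finset.sum_congr rfl fun η _ => by rw [hn, hn, Complex.conj_natCast]
  rw [h2, Complex.natCast_re]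
  have h3 : 1 ≤ n φ ⟨θ, hθ⟩ * n φ' ⟨θ, hθ⟩ := by
    have e1 : n φ ⟨θ, hθ⟩ ≠ 0 := fun e => h (by rw [hn φ ⟨θ, hθ⟩, e, Nat.cast_zero])
    have e2 : n φ' ⟨θ, hθ⟩ ≠ 0 := fun e => h' (by rw [hn φ' ⟨θ, hθ⟩, e, Nat.cast_zero])
    exact Nat.mul_pos (Nat.pos_of_ne_zero e1) (Nat.pos_of_ne_zero e2)
  have h4 : n φ ⟨θ, hθ⟩ * n φ' ⟨θ, hθ⟩ ≤ ∑ η : IrrCharacter L, n φ η * n φ' η :=
    Finset.single_le_sum (f := fun η => n φ η * n φ' η) (fun _ _ => Nat.zero_le _)
      (Finset.mem_univ (⟨θ, hθ⟩ : IrrCharacter L))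
  exact_mod_cast h3.trans h4

/-- `[φ_L, φ_L] θ(1) = [φ_L, θ] φ(1)`. -/
theorem self_mul [Fintype L] {θ : L → ℂ} (hθ : IsIrrCharacter L θ) {φ : IrrCharacter H}
    (h : φ ∈ OverSet L θ) :
    classInner (res L (φ : H → ℂ)) (res L (φ : H → ℂ)) * θ 1 =
      classInner (res L (φ : H → ℂ)) θ * (φ : H → ℂ) 1 := by
  classical
  have hS := S0174.result L hL (φ : H → ℂ) φ.2 θ hθ h
  set S : Set (L → ℂ) := {ψ : L → ℂ | ∃ g : H, ψ = fun n : L => θ ⟨g * n * g⁻¹, hL.conj_mem n n.2 g⟩}
    with hSdef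
  have hSfin : S.Finite := by
    refine Set.Finite.subset (Set.finite_range
      (fun g : H => (fun n : L => θ ⟨g * n * g⁻¹, hL.conj_mem n n.2 g⟩))) ?_
    rintro ψ ⟨g, rfl⟩
    exact ⟨g, rfl⟩
  have e0 : res L (φ : H → ℂ) =
      classInner (res L (φ : H → ℂ)) θ • ∑ ψ ∈ hSfin.toFinset, ψ := by
    conv_lhs => rw [show res L (φ : H → ℂ) = (fun n : L => (φ : H → ℂ) n) from rfl, hS]
    congr 1
    exact finsum_mem_eq_finite_toFinset_sum _ hSfin
  have hconj : ∀ ψ ∈ hSfin.toFinset, classInner (res L (φ : H → ℂ)) ψ =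
      classInner (res L (φ : H → ℂ)) θ ∧ ψ 1 = θ 1 := by
    intro ψ hψ
    obtain ⟨g, rfl⟩ := (Set.Finite.mem_toFinset hSfin).1 hψ
    have e1 : (fun n : L => θ ⟨g * n * g⁻¹, hL.conj_mem n n.2 g⟩) = conjFn L θ g := rfl
    rw [e1]
    refine ⟨?_, conjFn_apply_one L θ g⟩
    have e2 : res L (φ : H → ℂ) = conjFn L (res L (φ : H → ℂ)) g :=
      (conjFn_res L (isIrr_isClassFunction φ.2) g).symm
    conv_lhs => rw [e2]
    rw [classInner_conjFn]
  obtain ⟨n, hn⟩ := classInner_isNat (isCharacter_res L (isIrr_isCharacter φ.2))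
    (isIrr_isCharacter hθ)
  have e3 := congrArg (classInner (res L (φ : H → ℂ))) e0
  rw [classInner_smul_right, classInner_sum_right,
    Finset.sum_congr rfl fun ψ hψ => (hconj ψ hψ).1, Finset.sum_const, nsmul_eq_mul, hn,
    Complex.conj_natCast] at e3
  have e4 := congrFun e0 1
  rw [Pi.smul_apply, Finset.sum_apply, Finset.sum_congr rfl fun ψ hψ => (hconj ψ hψ).2,
    Finset.sum_const, nsmul_eq_mul, hn, smul_eq_mul] at e4
  have e5 : res L (φ : H → ℂ) 1 = (φ : H → ℂ) 1 := rfl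
  rw [e3, hn, ← e5, e4]
  ring

/-- The sum of the norms of the restrictions of the characters over `θ`. -/
theorem sum_self [Fintype L] [Fintype (IrrCharacter H)] {θ : L → ℂ} (hθ : IsIrrCharacter L θ)
    (S : Finset (IrrCharacter H)) (hS : ∀ φ, φ ∈ S ↔ φ ∈ OverSet L θ) :
    ∑ φ ∈ S, classInner (res L (φ : H → ℂ)) (res L (φ : H → ℂ)) = (L.index : ℂ) := by
  classical
  have hθ1 : θ 1 ≠ 0 := isIrr_apply_one_ne_zero hθ
  refine mul_right_cancel₀ hθ1 ?_
  rw [Finset.sum_mul, Finset.sum_congr rfl fun φ hφ => self_mul hθ ((hS φ).1 hφ),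
    ← indFun_apply_one]
  have h1 := congrFun (classFunction_eq_sum (isClassFunction_indFun L θ)) 1
  rw [h1, Finset.sum_apply]
  have h2 : ∀ φ : IrrCharacter H, classInner (indFun L θ) (φ : H → ℂ) =
      classInner (res L (φ : H → ℂ)) θ := fun φ =>
    classInner_res_symm L (isIrr_isCharacter hθ) (isIrr_isCharacter φ.2)
  refine Finset.sum_subset_zero_on_sdiff (Finset.subset_univ S) ?_ ?_
  · intro φ hφ
    have h3 : φ ∉ OverSet L θ := fun h => (Finset.mem_sdiff.1 hφ).2 ((hS φ).2 h)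
    have h4 : classInner (res L (φ : H → ℂ)) θ = 0 := not_not.1 h3
    rw [Pi.smul_apply, h2, h4, zero_smul]
  · intro φ _
    rw [Pi.smul_apply, h2, smul_eq_mul]

end clifford

end Cfsg.Agent.H709.TI
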