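import Mathlib
import Cfsg.Agent.H616.FormMain
import Cfsg.Agent.H709.TI.Semi
import Cfsg.Agent.S0964
import Cfsg.Agent.S0914
import Cfsg.Agent.S3744
import Cfsg.Agent.H735.PqVan
import Cfsg.Agent.H591.Cliff

/-!
# The form of a block of a group with a normal Sylow `p`-subgroup

`X = P ⋊ H`, `L = C_H(P)`, `e = |H : L|`.  If `(e + 1) |C_P(h)| ≤ |P|` for every `h ∈ H` outside `L`
then every block of `X` has a form with trace at most `|P|`.
-/

set_option autoImplicit false

open Cfsg
open scoped ComplexConjugate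

namespace Cfsg.Agent.H709.TI

open Cfsg.Agent.Characters.Core Cfsg.Agent.OddOrderCharacters.IndRes
  Cfsg.Agent.OddOrderCharacters.NormalInduced
open Cfsg.Agent.H616.Form Cfsg.Agent.OddOrderCharacters.PF9.CliffGen

universe u

/-! ### Integer vectors -/

theorem two_le_sum_sq {y : ℕ → ℤ} {l : ℕ} (h0 : y 0 = 0) (hl : y (l + 1) = 0)
    (hne : ∃ k, k ≤ l ∧ y k ≠ 0) :
    2 ≤ ∑ i ∈ Finset.range (l + 1), (y (i + 1) - y i) ^ 2 := by
  have h1 : ∑ i ∈ Finset.range (l + 1), (y (i + 1) - y i) = 0 := by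
    rw [Finset.sum_range_sub, h0, hl, sub_zero]
  have h2 : (2 : ℤ) ∣ ∑ i ∈ Finset.range (l + 1), (y (i + 1) - y i) ^ 2 := by
    have h3 : ∑ i ∈ Finset.range (l + 1), (y (i + 1) - y i) ^ 2 =
        ∑ i ∈ Finset.range (l + 1), ((y (i + 1) - y i) ^ 2 - (y (i + 1) - y i)) := by
      rw [Finset.sum_sub_distrib, h1, sub_zero]
    rw [h3]
    refine Finset.dvd_sum fun i _ => ?_
    have h4 : (y (i + 1) - y i) ^ 2 - (y (i + 1) - y i) =
        (y (i + 1) - y i) * ((y (i + 1) - y i) - 1) := by ring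
    rw [h4]
    exact (Int.even_mul_pred_self _).two_dvd
  have h5 : 0 < ∑ i ∈ Finset.range (l + 1), (y (i + 1) - y i) ^ 2 := by
    rcases (Finset.sum_nonneg (s := Finset.range (l + 1))
      (f := fun i => (y (i + 1) - y i) ^ 2) (fun i _ => sq_nonneg _)).lt_or_eq with h | h
    · exact h
    · exfalso
      have h6 := (Finset.sum_eq_zero_iff_of_nonneg (fun i _ => sq_nonneg _)).1 h.symm
      have h7 : ∀ k, k ≤ l + 1 → y k = 0 := by
        intro k
        induction k with
        | zero => intro _; exact h0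
        | succ k ih =>
          intro hk
          have h8 := h6 k (Finset.mem_range.2 (by omega))
          have h9 : y (k + 1) - y k = 0 := by
            rcases pow_eq_zero_iff (two_ne_zero) |>.1 h8 with h
            exact h
          have h10 := ih (by omega)
          omega
      obtain ⟨k, hk, hk'⟩ := hne
      exact hk' (h7 k (by omega))
  omega

/-! ### The elements of order prime to `p` -/

section conjugate

variable {X : Type u} [Group X] [Finite X] {p : ℕ} [hp : Fact p.Prime] {P H : Subgroup X}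
  [hPn : P.Normal]

theorem exists_conj_mem (hP : IsPGroup p P) (hc : Subgroup.IsComplement' P H)
    (hH : ¬ p ∣ Nat.card H) {g : X} (hg : ¬ p ∣ orderOf g) : ∃ y : X, y * g * y⁻¹ ∈ H := by
  have hPi : ¬ p ∣ P.index := by
    have h1 : P.index = Nat.card H := hc.symm.index_eq_card
    rwa [h1]
  let Q : Sylow p X := hP.toSylow hPi
  have hs : IsPSolvable p X := by
    exact Cfsg.Agent.H735.PqVan.isPSolvable_of_normal_sylow Q hPn
  obtain ⟨-, h2, h3⟩ := S3744.result (G := X) hs
  have hU : (Nat.card (Subgroup.zpowers g)).Coprime p := by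
    rw [Nat.card_zpowers]
    exact ((Nat.Prime.coprime_iff_not_dvd hp.out).2 hg).symm
  obtain ⟨H', h4, h5, x, hx⟩ := h3 _ hU
  have hHi : ∃ n : ℕ, H.index = p ^ n := by
    obtain ⟨n, hn⟩ := IsPGroup.iff_card.1 hP
    exact ⟨n, by rw [← hn]; exact hc.index_eq_card⟩
  obtain ⟨y, hy⟩ := h2 H' H h4 h5 ((Nat.Prime.coprime_iff_not_dvd hp.out).2 hH).symm hHi
  refine ⟨y * x, ?_⟩
  have h6 : x * g * x⁻¹ ∈ H' := hx ⟨g, Subgroup.mem_zpowers g, rfl⟩
  rw [hy]
  exact ⟨_, h6, by simp [mul_assoc]⟩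

end conjugate

/-! ### The sum of the norms of the differences -/

theorem chain_sum {K : Type*} [Group K] [Fintype K] (l : ℕ) (a : ℕ → K → ℂ) (h0 : a 0 = 0)
    (hl : a (l + 1) = 0) :
    ∑ i ∈ Finset.range (l + 1), (classInner (a (i + 1) - a i) (a (i + 1) - a i)).re =
      2 * ∑ i ∈ Finset.range l, (classInner (a (i + 1)) (a (i + 1))).re -
        2 * ∑ i ∈ Finset.range l, (classInner (a (i + 2)) (a (i + 1))).re := by
  have h1 : ∀ i, (classInner (a (i + 1) - a i) (a (i + 1) - a i)).re =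
      (classInner (a (i + 1)) (a (i + 1))).re + (classInner (a i) (a i)).re -
        2 * (classInner (a (i + 1)) (a i)).re := by
    intro i
    rw [classInner_sub_left, classInner_sub_right, classInner_sub_right,
      ← classInner_conj_symm (a (i + 1)) (a i)]
    simp only [Complex.sub_re, Complex.conj_re]
    ring
  rw [Finset.sum_congr rfl fun i _ => h1 i, Finset.sum_sub_distrib, Finset.sum_add_distrib,
    ← Finset.mul_sum, Finset.sum_range_succ (fun i => (classInner (a (i + 1)) (a (i + 1))).re),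
    Finset.sum_range_succ' (fun i => (classInner (a i) (a i)).re),
    Finset.sum_range_succ' (fun i => (classInner (a (i + 1)) (a i)).re), h0, hl]
  simp only [classInner_zero_right, Complex.zero_re]
  ring

/-! ### The main result -/

section main

variable {X : Type u} [Group X] [Finite X] {p : ℕ} [hp : Fact p.Prime] {M : Ideal AlgInt}
  {P H : Subgroup X} [hPn : P.Normal]

/-- A block of a group of order prime to `p` has one member. -/
theorem blockOf_eq_singleton {L : Type*} [Group L] [Finite L] (hM : IsPModular p M)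
    (hL : ¬ p ∣ Nat.card L) (θ : IrrCharacter L) : blockOf M (θ : L → ℂ) = {θ} := by
  refine (S0914.result p M hM θ).1 fun h => hL ?_
  exact h.trans (Nat.div_dvd_of_dvd (S0914.degree_spec θ).2.2)

theorem exists_over {Y : Type*} [Group Y] [Fintype Y] {a : Y → ℂ} (ha : IsClassFunction Y a)
    (h1 : a 1 ≠ 0) : ∃ η : IrrCharacter Y, classInner a (η : Y → ℂ) ≠ 0 := by
  by_contra h
  push Not at h
  have := classFunction_eq_zero ha (fun χ hχ => h ⟨χ, hχ⟩)
  rw [this] at h1
  exact h1 rfl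

theorem over_trans [Fintype X] [Fintype H] (L : Subgroup X) [Fintype L] (hLH : L ≤ H)
    {ψ : IrrCharacter X}
    {φ : IrrCharacter H} (hφ : classInner (res H (ψ : X → ℂ)) (φ : H → ℂ) ≠ 0)
    {η : L → ℂ} (hη : IsIrrCharacter L η) (h : classInner (resTo hLH (φ : H → ℂ)) η ≠ 0) :
    classInner (res L (ψ : X → ℂ)) η ≠ 0 := by
  classical
  have : Finite (IrrCharacter H) := finite_irr
  have := Fintype.ofFinite (IrrCharacter H)
  obtain ⟨m, hm⟩ := exists_nat_comb (isCharacter_res H (isIrr_isCharacter ψ.2))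
  have h1 : res L (ψ : X → ℂ) = ∑ ξ : IrrCharacter H, m ξ • resTo hLH (ξ : H → ℂ) := by
    rw [← resTo_res hLH, hm]
    funext n
    rw [resTo_apply, Finset.sum_apply, Finset.sum_apply]
    rfl
  have hn : ∀ ξ : IrrCharacter H, ∃ n : ℕ, classInner (resTo hLH (ξ : H → ℂ)) η = n := fun ξ =>
    classInner_isNat (isCharacter_resTo hLH (isIrr_isCharacter ξ.2)) (isIrr_isCharacter hη)
  choose n hn using hn
  have h2 : classInner (res L (ψ : X → ℂ)) η = ((∑ ξ, m ξ * n ξ : ℕ) : ℂ) := by
    rw [h1, classInner_sum_left]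
    push_cast
    refine Finset.sum_congr rfl fun ξ _ => ?_
    rw [← Nat.cast_smul_eq_nsmul ℂ, classInner_smul_left, hn]
  have h3 : m φ ≠ 0 := by
    intro h4
    apply hφ
    rw [hm, classInner_sum_nsmul_irr, h4, Nat.cast_zero]
  have h4 : n φ ≠ 0 := by
    intro h4
    apply h
    rw [hn, h4, Nat.cast_zero]
  rw [h2, Nat.cast_ne_zero]
  intro h5
  have h6 := (Finset.sum_eq_zero_iff.1 h5) φ (Finset.mem_univ _)
  exact (Nat.mul_ne_zero h3 h4) h6

omit hPn in
/-- The members of the block lie over the conjugates of one character of a normal `p'`-subgroup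
centralized by `P`. -/
theorem over_of_mem [Fintype H] (hM : IsPModular p M) {f : Set (IrrCharacter X)}
    (hf : IsPBlock M f) (hc : Subgroup.IsComplement' P H) (hH : ¬ p ∣ Nat.card H) (L : Subgroup X)
    [hL : L.Normal] [Fintype L] [Fintype (L.subgroupOf H)] (hLH : L ≤ H)
    (hLP : L ≤ Subgroup.centralizer (P : Set X))
    {χ₀ : IrrCharacter X} (hχ₀ : χ₀ ∈ f) {θ : L → ℂ} (hθ : IsIrrCharacter L θ)
    (h0 : classInner (res L (χ₀ : X → ℂ)) θ ≠ 0) {ψ : IrrCharacter X} (hψ : ψ ∈ f)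
    {φ : IrrCharacter H} (hφ : classInner (res H (ψ : X → ℂ)) (φ : H → ℂ) ≠ 0) :
    φ ∈ OverSet (L.subgroupOf H) (down L H θ) := by
  classical
  have := Fintype.ofFinite X
  have := hM.2.1.isPrime
  have hLp : ¬ p ∣ Nat.card L := fun h => hH (h.trans (Subgroup.card_dvd_of_le hLH))
  obtain ⟨η, hη⟩ := exists_over (a := resTo hLH (φ : H → ℂ))
    (isCharacter_isClassFunction (isCharacter_resTo hLH (isIrr_isCharacter φ.2)))
    (by rw [resTo_apply]; exact isIrr_apply_one_ne_zero φ.2)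
  have h1 := over_trans L hLH hφ η.2 hη
  have hb := blockOf_eq_singleton hM hLp ⟨θ, hθ⟩
  obtain ⟨g, θ', hθ', hg⟩ := S0964.result p M hM L f hf (blockOf M θ)
    (Blocks.Basic.isPBlock_blockOf ⟨θ, hθ⟩) χ₀ hχ₀ ⟨θ, hθ⟩
    (Blocks.Basic.mem_blockOf_self ⟨θ, hθ⟩) h0 ψ hψ η h1
  have hθ'' : θ' = ⟨θ, hθ⟩ := by
    have : θ' ∈ blockOf M ((⟨θ, hθ⟩ : IrrCharacter L) : L → ℂ) := hθ'
    rw [hb] at this
    exact this
  subst hθ''
  -- the element `g` may be taken in `H`
  obtain ⟨⟨u, k⟩, huk⟩ := hc.2 g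
  have huk' : (u : X) * (k : X) = g := huk
  have hk : (η : L → ℂ) = fun n : L => θ ⟨(k : X) * n * (k : X)⁻¹, hL.conj_mem n n.2 k⟩ := by
    funext n
    rw [hg n]
    refine congrArg θ (Subtype.ext ?_)
    show g * n * g⁻¹ = (k : X) * n * (k : X)⁻¹
    have h2 : (k : X) * n * (k : X)⁻¹ ∈ Subgroup.centralizer (P : Set X) :=
      hLP (hL.conj_mem n n.2 k)
    have h3 := Subgroup.mem_centralizer_iff.1 h2 u u.2
    rw [← huk']
    calc (u : X) * k * n * ((u : X) * k)⁻¹ = (u : X) * ((k : X) * n * (k : X)⁻¹) * (u : X)⁻¹ := by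
          group
      _ = (k : X) * n * (k : X)⁻¹ := by rw [h3, mul_inv_cancel_right]
  have h2 : classInner (res (L.subgroupOf H) (φ : H → ℂ)) (down L H (η : L → ℂ)) ≠ 0 := by
    rw [res_eq_down hLH, classInner_down hLH]
    exact hη
  have h3 : down L H (η : L → ℂ) = conjFn (L.subgroupOf H) (down L H θ) k := by
    rw [hk]
    rfl
  rw [h3] at h2
  have h4 : res (L.subgroupOf H) (φ : H → ℂ) =
      conjFn (L.subgroupOf H) (res (L.subgroupOf H) (φ : H → ℂ)) k :=
    (conjFn_res _ (isIrr_isClassFunction φ.2) k).symm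
  rw [h4, classInner_conjFn] at h2
  exact h2

theorem classInner_self_re {K : Type*} [Group K] [Fintype K] (a : K → ℂ) :
    (classInner a a).re = (Nat.card K : ℝ)⁻¹ * ∑ g : K, ‖a g‖ ^ 2 := by
  have h : classInner a a = (((Nat.card K : ℝ)⁻¹ * ∑ g : K, ‖a g‖ ^ 2 : ℝ) : ℂ) := by
    rw [classInner_def]
    push_cast
    congr 1
    refine Finset.sum_congr rfl fun g _ => ?_
    rw [Complex.mul_conj, Complex.normSq_eq_norm_sq]
    push_cast
    rfl
  rw [h, Complex.ofReal_re]

/-- **The form of a block of `P ⋊ H`.** -/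
theorem formBd_compl (hM : IsPModular p M) {f : Set (IrrCharacter X)}
    (hf : IsPBlock M f) (hP : IsPGroup p P) (hc : Subgroup.IsComplement' P H)
    (hH : ¬ p ∣ Nat.card H) (L : Subgroup X) [hL : L.Normal] (hLH : L ≤ H)
    (hLP : L ≤ Subgroup.centralizer (P : Set X))
    (hW : ∀ h ∈ H, h ∉ L →
      (L.relIndex H + 1) * Nat.card ↥(P ⊓ Subgroup.centralizer {h}) ≤ Nat.card P) :
    FormBd p f (Nat.card P) := by
  classical
  have := Fintype.ofFinite X
  have := Fintype.ofFinite H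
  have := Fintype.ofFinite L
  have := Fintype.ofFinite (L.subgroupOf H)
  have := hM.2.1.isPrime
  have : Finite (IrrCharacter X) := finite_irr
  have := Fintype.ofFinite (IrrCharacter X)
  have : Finite (IrrCharacter H) := finite_irr
  have := Fintype.ofFinite (IrrCharacter H)
  have := Fintype.ofFinite f
  obtain ⟨χ₀, hχ₀⟩ := Blocks.Basic.isPBlock_nonempty hf
  obtain ⟨θ, hθ0⟩ := exists_over (a := res L (χ₀ : X → ℂ))
    (isCharacter_isClassFunction (isCharacter_res L (isIrr_isCharacter χ₀.2)))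
    (isIrr_apply_one_ne_zero χ₀.2 : (χ₀ : X → ℂ) 1 ≠ 0)
  set N : Subgroup H := L.subgroupOf H with hN
  set θ' : N → ℂ := down L H (θ : L → ℂ) with hθ'
  have hθ'irr : IsIrrCharacter N θ' := Cfsg.Agent.H591.Cliff.isIrr_down hLH θ.2
  let S : Finset (IrrCharacter H) := Finset.univ.filter (fun φ => φ ∈ OverSet N θ')
  have hS : ∀ φ, φ ∈ S ↔ φ ∈ OverSet N θ' := fun φ => by simp [S]
  have hkey : ∀ ψ ∈ f, ∀ φ : IrrCharacter H,
      classInner (res H (ψ : X → ℂ)) (φ : H → ℂ) ≠ 0 → φ ∈ S := fun ψ hψ φ hφ =>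
    (hS φ).2 (over_of_mem hM hf hc hH L hLH hLP hχ₀ θ.2 hθ0 hψ hφ)
  -- an enumeration
  obtain ⟨l, hl⟩ : ∃ l, l = S.card := ⟨_, rfl⟩
  let A : Fin l ≃ S := (finCongr hl).trans S.equivFin.symm
  have hl0 : l ≠ 0 := by
    obtain ⟨φ, hφ⟩ := exists_over (a := res H (χ₀ : X → ℂ))
      (isCharacter_isClassFunction (isCharacter_res H (isIrr_isCharacter χ₀.2)))
      (isIrr_apply_one_ne_zero χ₀.2 : (χ₀ : X → ℂ) 1 ≠ 0)
    rw [hl]
    exact Finset.card_ne_zero_of_mem (hkey χ₀ hχ₀ φ hφ)
  let a : ℕ → H → ℂ := fun k => if h : 0 < k ∧ k ≤ l then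
    ((A ⟨k - 1, by omega⟩ : IrrCharacter H) : H → ℂ) else 0
  have ha0 : a 0 = 0 := by simp [a]
  have hal : a (l + 1) = 0 := by simp [a]
  have haA : ∀ i : Fin l, a (i + 1) = ((A i : IrrCharacter H) : H → ℂ) := by
    intro i
    have h1 : 0 < (i : ℕ) + 1 ∧ (i : ℕ) + 1 ≤ l := ⟨by omega, by have := i.2; omega⟩
    simp only [a, dif_pos h1]
    congr 3
  have hacases : ∀ k, a k = 0 ∨ ∃ i : Fin l, k = i + 1 ∧ a k = ((A i : IrrCharacter H) : H → ℂ) := by
    intro k
    by_cases h : 0 < k ∧ k ≤ l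
    · right
      refine ⟨⟨k - 1, by omega⟩, by simp; omega, ?_⟩
      simp only [a, dif_pos h]
    · left
      simp only [a, dif_neg h]
  have hclass : ∀ k, IsClassFunction H (a k) := by
    intro k
    rcases hacases k with h | ⟨i, -, h⟩
    · rw [h]; intro g x; rfl
    · rw [h]; exact isIrr_isClassFunction (A i : IrrCharacter H).2
  have hchar : ∀ k, IsCharacter H (a k) := by
    intro k
    rcases hacases k with h | ⟨i, -, h⟩
    · rw [h]; exact isCharacter_zero
    · rw [h]; exact isIrr_isCharacter (A i : IrrCharacter H).2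
  have hn : ∀ (ψ : IrrCharacter X) (k : ℕ), ∃ n : ℕ,
      classInner (res H (ψ : X → ℂ)) (a k) = n := fun ψ k =>
    classInner_isNat (isCharacter_res H (isIrr_isCharacter ψ.2)) (hchar k)
  choose n hn using hn
  let b : ℕ → H → ℂ := fun i => a (i + 1) - a i
  have hb : ∀ i, IsClassFunction H (b i) := fun i g x => by
    simp only [b, Pi.sub_apply]
    rw [hclass (i + 1) g x, hclass i g x]
  have hnb : ∀ (ψ : IrrCharacter X) (i : ℕ),
      classInner (res H (ψ : X → ℂ)) (b i) = (((n ψ (i + 1) : ℝ) - n ψ i : ℝ) : ℂ) := by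
    intro ψ i
    simp only [b]
    rw [classInner_sub_right, hn, hn]
    push_cast
    rfl
  -- the numbers
  have hsumH : ∑ i ∈ Finset.range (l + 1), (classInner (b i) (b i)).re = 2 * l := by
    have h1 := chain_sum l a ha0 hal
    have h2 : ∀ i ∈ Finset.range l, (classInner (a (i + 1)) (a (i + 1))).re = 1 := by
      intro i hi
      have h3 := haA ⟨i, Finset.mem_range.1 hi⟩
      simp only at h3
      rw [h3, classInner_irr_self (A ⟨i, Finset.mem_range.1 hi⟩ : IrrCharacter H).2, Complex.one_re]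
    have h4 : ∀ i ∈ Finset.range l, (classInner (a (i + 2)) (a (i + 1))).re = 0 := by
      intro i hi
      have h3 := haA ⟨i, Finset.mem_range.1 hi⟩
      simp only at h3
      rcases hacases (i + 2) with h5 | ⟨j, hj, h5⟩
      · rw [h5, classInner_zero_left, Complex.zero_re]
      · rw [h5, h3, classInner_irr_ne (A j : IrrCharacter H).2
          (A ⟨i, Finset.mem_range.1 hi⟩ : IrrCharacter H).2, Complex.zero_re]
        intro h6
        have h7 : A j = A ⟨i, Finset.mem_range.1 hi⟩ := Subtype.ext (Subtype.ext h6)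
        have h8 := congrArg Fin.val (A.injective h7)
        simp only at h8
        omega
    rw [h1, Finset.sum_congr rfl h2, Finset.sum_congr rfl h4]
    simp
  have hsumL : ∑ i ∈ Finset.range (l + 1), (classInner (res N (b i)) (res N (b i))).re ≤
      2 * ((L.relIndex H : ℝ) - l + 1) := by
    have h1 := chain_sum l (fun k => res N (a k)) (by simp only [ha0]; rfl) (by simp only [hal]; rfl)
    have h2 : ∑ i ∈ Finset.range l, (classInner (res N (a (i + 1))) (res N (a (i + 1)))).re =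
        L.relIndex H := by
      have h3 := sum_self hθ'irr S hS
      have h4 := congrArg Complex.re h3
      rw [Complex.natCast_re, Complex.re_sum] at h4
      have h5 : (L.relIndex H : ℝ) = N.index := rfl
      rw [h5, ← h4, Finset.sum_range, ← Finset.sum_coe_sort S, ← Equiv.sum_comp A]
      exact Finset.sum_congr rfl fun i _ => by rw [haA i]
    have h6 : (l : ℝ) - 1 ≤
        ∑ i ∈ Finset.range l, (classInner (res N (a (i + 2))) (res N (a (i + 1)))).re := by
      obtain ⟨m, hm⟩ : ∃ m, l = m + 1 := Nat.exists_eq_succ_of_ne_zero hl0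
      have h7 : ∀ i ∈ Finset.range m, (1 : ℝ) ≤
          (classInner (res N (a (i + 2))) (res N (a (i + 1)))).re := by
        intro i hi
        have hi' := Finset.mem_range.1 hi
        have e1 := haA ⟨i, by omega⟩
        have e2 := haA ⟨i + 1, by omega⟩
        simp only at e1 e2
        rw [e1, show i + 2 = i + 1 + 1 from rfl, e2]
        exact one_le_of_over hθ'irr ((hS _).1 (A _).2) ((hS _).1 (A _).2)
      have h8 := Finset.sum_le_sum h7
      have h9 : a (m + 2) = 0 := by rw [show m + 2 = l + 1 by omega]; exact hal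
      have h10 : (classInner (res N (a (m + 2))) (res N (a (m + 1)))).re = 0 := by
        rw [h9]
        show (classInner (0 : N → ℂ) _).re = 0
        rw [classInner_zero_left, Complex.zero_re]
      rw [hm, Finset.sum_range_succ, h10, add_zero]
      simp only [Finset.sum_const, Finset.card_range, nsmul_eq_mul, mul_one] at h8
      push_cast
      linarith
    have h7 : ∑ i ∈ Finset.range (l + 1), (classInner (res N (b i)) (res N (b i))).re =
        2 * ∑ i ∈ Finset.range l, (classInner (res N (a (i + 1))) (res N (a (i + 1)))).re -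
        2 * ∑ i ∈ Finset.range l, (classInner (res N (a (i + 2))) (res N (a (i + 1)))).re := h1
    rw [h7, h2]
    linarith
  have htotal : ∑ i ∈ Finset.range (l + 1), ∑ ψ : IrrCharacter X,
      ((n ψ (i + 1) : ℝ) - n ψ i) ^ 2 ≤ 2 * Nat.card P := by
    have hcard : (L.relIndex H : ℝ) * Nat.card N = Nat.card H := by
      have := Subgroup.index_mul_card N
      exact_mod_cast this
    have hHpos : (0 : ℝ) < Nat.card H := by exact_mod_cast Nat.card_pos
    have hNpos : (0 : ℝ) < Nat.card N := by exact_mod_cast Nat.card_pos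
    have he : (0 : ℝ) < (L.relIndex H : ℝ) + 1 := by positivity
    -- one term
    have h1 : ∀ i, ((L.relIndex H : ℝ) + 1) * ∑ ψ : IrrCharacter X,
        ((n ψ (i + 1) : ℝ) - n ψ i) ^ 2 ≤
        Nat.card P * ((classInner (b i) (b i)).re + (classInner (res N (b i)) (res N (b i))).re) := by
      intro i
      have h2 : ∑ ψ : IrrCharacter X, ((n ψ (i + 1) : ℝ) - n ψ i) ^ 2 =
          ∑ ψ : IrrCharacter X, ‖classInner (res H (ψ : X → ℂ)) (b i)‖ ^ 2 := by
        refine Finset.sum_congr rfl fun ψ _ => ?_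
        rw [hnb, Complex.norm_real, Real.norm_eq_abs, sq_abs]
      rw [h2, sum_norm_sq hc (hb i), classInner_self_re, classInner_self_re]
      have h3 : ∑ x : N, ‖res N (b i) x‖ ^ 2 = ∑ h : H, if (h : X) ∈ L then ‖b i h‖ ^ 2 else 0 := by
        rw [← Finset.sum_filter]
        refine Finset.sum_bij (fun x _ => (x : H)) ?_ ?_ ?_ ?_
        · intro x _
          rw [Finset.mem_filter]
          exact ⟨Finset.mem_univ _, Subgroup.mem_subgroupOf.1 x.2⟩
        · intro x _ y _ hxy
          exact Subtype.ext hxy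
        · intro h hh
          exact ⟨⟨h, Subgroup.mem_subgroupOf.2 (Finset.mem_filter.1 hh).2⟩, Finset.mem_univ _, rfl⟩
        · intro x _
          rfl
      rw [h3]
      have h4 : (Nat.card N : ℝ)⁻¹ = (Nat.card H : ℝ)⁻¹ * L.relIndex H := by
        rw [← hcard]
        have h5 : (L.relIndex H : ℝ) ≠ 0 := by
          intro h6
          rw [h6, zero_mul] at hcard
          exact hHpos.ne hcard
        field_simp
      rw [h4]
      have h5 : (Nat.card P : ℝ) * ((Nat.card H : ℝ)⁻¹ * ∑ g : H, ‖b i g‖ ^ 2 +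
          (Nat.card H : ℝ)⁻¹ * L.relIndex H * ∑ h : H, (if (h : X) ∈ L then ‖b i h‖ ^ 2 else 0)) =
          (Nat.card H : ℝ)⁻¹ * ∑ h : H, ((Nat.card P : ℝ) * (‖b i h‖ ^ 2 +
            L.relIndex H * (if (h : X) ∈ L then ‖b i h‖ ^ 2 else 0))) := by
        rw [← Finset.mul_sum, Finset.sum_add_distrib, ← Finset.mul_sum]
        ring
      have h6 : ((L.relIndex H : ℝ) + 1) * ((Nat.card H : ℝ)⁻¹ * ∑ h : H,
          (Nat.card ↥(P ⊓ Subgroup.centralizer {(h : X)}) : ℝ) * ‖b i h‖ ^ 2) =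
          (Nat.card H : ℝ)⁻¹ * ∑ h : H, (((L.relIndex H : ℝ) + 1) *
            ((Nat.card ↥(P ⊓ Subgroup.centralizer {(h : X)}) : ℝ) * ‖b i h‖ ^ 2)) := by
        rw [← Finset.mul_sum]
        ring
      rw [h5, h6]
      refine mul_le_mul_of_nonneg_left ?_ (by positivity)
      refine Finset.sum_le_sum fun h _ => ?_
      by_cases hhL : (h : X) ∈ L
      · rw [if_pos hhL]
        have h7 : (Nat.card ↥(P ⊓ Subgroup.centralizer {(h : X)}) : ℝ) ≤ Nat.card P := by
          exact_mod_cast Nat.le_of_dvd Nat.card_pos (Subgroup.card_dvd_of_le inf_le_left)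
        have h8 : (0 : ℝ) ≤ ((L.relIndex H : ℝ) + 1) * ‖b i h‖ ^ 2 := by positivity
        nlinarith [mul_le_mul_of_nonneg_left h7 h8]
      · rw [if_neg hhL, mul_zero, add_zero, ← mul_assoc]
        refine mul_le_mul_of_nonneg_right ?_ (by positivity)
        exact_mod_cast hW h h.2 hhL
    have h2 : ((L.relIndex H : ℝ) + 1) * ∑ i ∈ Finset.range (l + 1), ∑ ψ : IrrCharacter X,
        ((n ψ (i + 1) : ℝ) - n ψ i) ^ 2 ≤ ((L.relIndex H : ℝ) + 1) * (2 * Nat.card P) := by
      rw [Finset.mul_sum]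
      refine (Finset.sum_le_sum fun i _ => h1 i).trans ?_
      rw [← Finset.mul_sum, Finset.sum_add_distrib, hsumH]
      have h3 : (0 : ℝ) ≤ Nat.card P := by positivity
      nlinarith [mul_le_mul_of_nonneg_left hsumL h3]
    exact le_of_mul_le_mul_left h2 he
  have hs2 : (Real.sqrt 2)⁻¹ ^ 2 = 2⁻¹ := by
    rw [inv_pow, Real.sq_sqrt (by norm_num)]
  refine IsForm.formBd (κ := Fin (l + 1)) (T := fun ψ i =>
    (Real.sqrt 2)⁻¹ * ((n ψ (i + 1) : ℝ) - n ψ i)) ⟨?_, ?_, ?_⟩
  · intro c hc' i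
    have h1 : ∑ ψ : f, (c ψ : ℂ) • res H ((ψ : IrrCharacter X) : X → ℂ) = 0 := by
      funext h
      rw [Finset.sum_apply]
      have h2 := hc' (h : X) (fun h3 => hH (by
        rw [Subgroup.orderOf_coe] at h3
        exact h3.trans (orderOf_dvd_natCard h)))
      rw [Pi.zero_apply, ← h2]
      rfl
    have h2 : ∑ ψ : f, (c ψ : ℂ) * (((n ψ (i + 1) : ℝ) - n ψ i : ℝ) : ℂ) = 0 := by
      have h3 : classInner (∑ ψ : f, (c ψ : ℂ) • res H ((ψ : IrrCharacter X) : X → ℂ)) (b i) = 0 := by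
        rw [h1, classInner_zero_left]
      rw [classInner_sum_left] at h3
      rw [← h3]
      exact Finset.sum_congr rfl fun ψ _ => by rw [classInner_smul_left, hnb]
    have h3 : ∑ ψ : f, (c ψ : ℝ) * ((n ψ (i + 1) : ℝ) - n ψ i) = 0 := by
      exact_mod_cast h2
    have h4 : ∀ ψ : f, (c ψ : ℝ) * ((Real.sqrt 2)⁻¹ * ((n ψ (i + 1) : ℝ) - n ψ i)) =
        (Real.sqrt 2)⁻¹ * ((c ψ : ℝ) * ((n ψ (i + 1) : ℝ) - n ψ i)) := fun ψ => by ring
    rw [Finset.sum_congr rfl fun ψ _ => h4 ψ, ← Finset.mul_sum, h3, mul_zero]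
  · intro c hc'
    let y : ℕ → ℤ := fun k => ∑ ψ : f, c ψ * n ψ k
    have hn0 : ∀ (ψ : IrrCharacter X) k, a k = 0 → n ψ k = 0 := by
      intro ψ k hk
      have h1 := hn ψ k
      rw [hk, classInner_zero_right] at h1
      exact_mod_cast h1.symm
    have hy0 : y 0 = 0 := by
      simp only [y]
      exact Finset.sum_eq_zero fun ψ _ => by rw [hn0 ψ 0 ha0]; simp
    have hyl : y (l + 1) = 0 := by
      simp only [y]
      exact Finset.sum_eq_zero fun ψ _ => by rw [hn0 ψ (l + 1) hal]; simp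
    have hT : ∀ i : ℕ, ∑ ψ : f, (c ψ : ℝ) * ((Real.sqrt 2)⁻¹ * ((n ψ (i + 1) : ℝ) - n ψ i)) =
        (Real.sqrt 2)⁻¹ * ((y (i + 1) - y i : ℤ) : ℝ) := by
      intro i
      have h4 : ∀ ψ : f, (c ψ : ℝ) * ((Real.sqrt 2)⁻¹ * ((n ψ (i + 1) : ℝ) - n ψ i)) =
        (Real.sqrt 2)⁻¹ * ((c ψ : ℝ) * n ψ (i + 1) - (c ψ : ℝ) * n ψ i) := fun ψ => by ring
      rw [Finset.sum_congr rfl fun ψ _ => h4 ψ, ← Finset.mul_sum, Finset.sum_sub_distrib]
      simp only [y]
      push_cast
      rfl
    have hne : ∃ k, k ≤ l ∧ y k ≠ 0 := by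
      by_contra hcon
      push Not at hcon
      apply hc'
      have hF : ∑ ψ : f, (c ψ : ℂ) • res H ((ψ : IrrCharacter X) : X → ℂ) = 0 := by
        apply classFunction_eq_zero
        · intro g x
          rw [Finset.sum_apply, Finset.sum_apply]
          refine Finset.sum_congr rfl fun ψ _ => ?_
          rw [Pi.smul_apply, Pi.smul_apply]
          congr 1
          exact isIrr_isClassFunction (ψ : IrrCharacter X).2 _ _
        · intro χ hχ
          rw [classInner_sum_left]
          by_cases hχS : (⟨χ, hχ⟩ : IrrCharacter H) ∈ S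
          · set i := A.symm ⟨⟨χ, hχ⟩, hχS⟩ with hi
            have h1 : a (i + 1) = χ := by
              rw [haA, hi, Equiv.apply_symm_apply]
            have h2 := hcon (i + 1) (by have := i.2; omega)
            have h3 : ((y (i + 1) : ℤ) : ℂ) = 0 := by rw [h2, Int.cast_zero]
            rw [← h3]
            simp only [y]
            push_cast
            refine Finset.sum_congr rfl fun ψ _ => ?_
            rw [classInner_smul_left, ← h1, hn]
          · refine Finset.sum_eq_zero fun ψ _ => ?_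
            rw [classInner_smul_left]
            have h1 : classInner (res H ((ψ : IrrCharacter X) : X → ℂ)) χ = 0 := by
              by_contra h2
              exact hχS (hkey ψ ψ.2 ⟨χ, hχ⟩ h2)
            rw [h1, mul_zero]
      intro g hg
      obtain ⟨z, hz⟩ := exists_conj_mem hP hc hH hg
      have h1 := congrFun hF ⟨z * g * z⁻¹, hz⟩
      rw [Finset.sum_apply] at h1
      rw [← (show (0 : H → ℂ) ⟨z * g * z⁻¹, hz⟩ = 0 from rfl), ← h1]
      refine Finset.sum_congr rfl fun ψ _ => ?_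
      rw [Pi.smul_apply, smul_eq_mul, res_apply]
      congr 1
      exact (isIrr_isClassFunction (ψ : IrrCharacter X).2 g z).symm
    have h2 := two_le_sum_sq hy0 hyl hne
    have h3 : ∑ i : Fin (l + 1), (∑ ψ : f, (c ψ : ℝ) *
        ((Real.sqrt 2)⁻¹ * ((n ψ (i + 1) : ℝ) - n ψ i))) ^ 2 =
        2⁻¹ * ((∑ i ∈ Finset.range (l + 1), (y (i + 1) - y i) ^ 2 : ℤ) : ℝ) := by
      rw [Finset.sum_congr rfl fun i _ => by rw [hT (i : ℕ), mul_pow, hs2], ← Finset.mul_sum,
        Finset.sum_range (fun i => (y (i + 1) - y i) ^ 2)]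
      push_cast
      rfl
    rw [h3]
    have h4 : (2 : ℝ) ≤ ((∑ i ∈ Finset.range (l + 1), (y (i + 1) - y i) ^ 2 : ℤ) : ℝ) := by
      exact_mod_cast h2
    linarith
  · have h1 : ∑ ψ : f, ∑ i : Fin (l + 1), ((Real.sqrt 2)⁻¹ *
        ((n ψ (i + 1) : ℝ) - n ψ i)) ^ 2 =
        2⁻¹ * ∑ ψ : f, ∑ i ∈ Finset.range (l + 1), ((n ψ (i + 1) : ℝ) - n ψ i) ^ 2 := by
      rw [Finset.mul_sum]
      refine Finset.sum_congr rfl fun ψ _ => ?_
      rw [Finset.mul_sum, Finset.sum_range]
      exact Finset.sum_congr rfl fun i _ => by rw [mul_pow, hs2]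
    have h2 : ∑ ψ : f, ∑ i ∈ Finset.range (l + 1), ((n ψ (i + 1) : ℝ) - n ψ i) ^ 2 ≤
        ∑ ψ : IrrCharacter X, ∑ i ∈ Finset.range (l + 1), ((n ψ (i + 1) : ℝ) - n ψ i) ^ 2 := by
      rw [Finset.sum_set_coe (s := f) (f := fun ψ : IrrCharacter X =>
        ∑ i ∈ Finset.range (l + 1), ((n ψ (i + 1) : ℝ) - n ψ i) ^ 2)]
      exact Finset.sum_le_univ_sum_of_nonneg fun ψ => Finset.sum_nonneg fun i _ => sq_nonneg _
    rw [h1]
    rw [Finset.sum_comm] at htotal
    linarith

end main

end Cfsg.Agent.H709.TI
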