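import Mathlib
import Cfsg.Agent.H709.TI.Form
import Cfsg.Agent.H624.Asm

/-!
# Blocks with a TI defect group that is a Sylow subgroup

* `formBd_of_normal`: `P` a normal Sylow `p`-subgroup of `X`, `e = |X : P C_X(P)|`; if
  `(e + 1) |C_P(g)| ≤ |P|` for all `g` of order prime to `p` which do not centralize `P` then every
  block of `X` has a form of trace at most `|P|`;
* `card_block_le_of_normalizes`: `z ∈ Z(P)` with `C_G(z) ≤ N_G(P)`;
* `card_block_le`: `P` is a TI subgroup.
-/

set_option autoImplicit false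

open Cfsg
open scoped Pointwise

namespace Cfsg.Agent.H709.TI

open Cfsg.Agent.H616.Form

universe u

section normal

variable {X : Type u} [Group X] [Finite X] {p : ℕ} [hp : Fact p.Prime] {M : Ideal AlgInt}
  {P H : Subgroup X} [hPn : P.Normal]

omit [Finite X] hp in
theorem inf_centralizer_normal (hc : Subgroup.IsComplement' P H) :
    (H ⊓ Subgroup.centralizer (P : Set X)).Normal := by
  refine ⟨fun n hn g => ?_⟩
  obtain ⟨⟨u, k⟩, huk⟩ := hc.2 g
  have huk' : (u : X) * (k : X) = g := huk
  have h1 : (k : X) * n * (k : X)⁻¹ ∈ Subgroup.centralizer (P : Set X) :=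
    (inferInstance : (Subgroup.centralizer (P : Set X)).Normal).conj_mem n hn.2 k
  have h2 : g * n * g⁻¹ = (k : X) * n * (k : X)⁻¹ := by
    have h3 := Subgroup.mem_centralizer_iff.1 h1 u u.2
    rw [← huk']
    calc (u : X) * k * n * ((u : X) * k)⁻¹ = (u : X) * ((k : X) * n * (k : X)⁻¹) * (u : X)⁻¹ := by
          group
      _ = (k : X) * n * (k : X)⁻¹ := by rw [h3, mul_inv_cancel_right]
  rw [h2]
  exact ⟨H.mul_mem (H.mul_mem k.2 hn.1) (H.inv_mem k.2), h1⟩

omit [Finite X] in
theorem mem_centralizer_of_mem_sup (hP : IsPGroup p P) (hH : ¬ p ∣ Nat.card H) {h : X} (hh : h ∈ H)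
    (h' : h ∈ P ⊔ Subgroup.centralizer (P : Set X)) : h ∈ Subgroup.centralizer (P : Set X) := by
  obtain ⟨u, hu, c, hc, rfl⟩ := Subgroup.mem_sup_of_normal_left.1 h'
  -- `u` acts as `u * c`
  set m := orderOf (u * c) with hm
  have hmp : m.Coprime p := by
    have h1 : m ∣ Nat.card H := by
      rw [hm]
      exact Subgroup.orderOf_dvd_natCard H hh
    exact ((Nat.Prime.coprime_iff_not_dvd hp.out).2 fun h => hH (h.trans h1)).symm
  have h1 : ∀ k : ℕ, ∃ d ∈ Subgroup.centralizer (P : Set X), (u * c) ^ k = u ^ k * d := by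
    intro k
    induction k with
    | zero => exact ⟨1, one_mem _, by simp⟩
    | succ k ih =>
      obtain ⟨d, hd, e⟩ := ih
      refine ⟨d * c, mul_mem hd hc, ?_⟩
      have h2 := Subgroup.mem_centralizer_iff.1 hd u hu
      rw [pow_succ, e, pow_succ]
      calc u ^ k * d * (u * c) = u ^ k * (d * u) * c := by group
        _ = u ^ k * (u * d) * c := by rw [h2]
        _ = u ^ k * u * (d * c) := by group
  obtain ⟨d, hd, e⟩ := h1 m
  rw [hm, pow_orderOf_eq_one] at e
  have h2 : u ^ m ∈ Subgroup.centralizer (P : Set X) := by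
    have : u ^ m = d⁻¹ := by
      rw [hm]
      exact eq_inv_of_mul_eq_one_left e.symm
    rw [this]
    exact inv_mem hd
  obtain ⟨k, hk⟩ := IsPGroup.iff_orderOf.1 hP ⟨u, hu⟩
  rw [Subgroup.orderOf_mk] at hk
  have h3 : (orderOf u).Coprime m := by
    rw [hk]
    exact (Nat.Coprime.pow_right k hmp).symm
  have h4 : u ∈ Subgroup.zpowers (u ^ m) := by
    rw [mem_zpowers_pow_iff]
    exact h3.symm
  have h5 : u ∈ Subgroup.centralizer (P : Set X) := by
    have : Subgroup.zpowers (u ^ m) ≤ Subgroup.centralizer (P : Set X) := by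
      rw [Subgroup.zpowers_le]
      exact h2
    exact this h4
  exact mul_mem h5 hc

/-- **The form of a block of a group with a normal Sylow subgroup.** -/
theorem formBd_of_normal (hM : IsPModular p M) {f : Set (IrrCharacter X)}
    (hf : IsPBlock M f) (hP : IsPGroup p P) (hPi : ¬ p ∣ P.index)
    (hW : ∀ g : X, ¬ p ∣ orderOf g → g ∉ Subgroup.centralizer (P : Set X) →
      ((P ⊔ Subgroup.centralizer (P : Set X)).index + 1) *
        Nat.card ↥(P ⊓ Subgroup.centralizer {g}) ≤ Nat.card P) :
    FormBd p f (Nat.card P) := by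
  have hcop : (Nat.card P).Coprime P.index := by
    obtain ⟨n, hn⟩ := IsPGroup.iff_card.1 hP
    rw [hn]
    exact Nat.Coprime.pow_left n ((Nat.Prime.coprime_iff_not_dvd hp.out).2 hPi)
  obtain ⟨H, hc⟩ := Subgroup.exists_right_complement'_of_coprime hcop
  have hH : ¬ p ∣ Nat.card H := by
    have h1 : P.index = Nat.card H := hc.symm.index_eq_card
    rwa [← h1]
  have hLn : (H ⊓ Subgroup.centralizer (P : Set X)).Normal := inf_centralizer_normal hc
  refine formBd_compl hM hf hP hc hH (H ⊓ Subgroup.centralizer (P : Set X)) inf_le_left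
    inf_le_right ?_
  intro h hh hhL
  have h1 : (H ⊓ Subgroup.centralizer (P : Set X)).relIndex H =
      (P ⊔ Subgroup.centralizer (P : Set X)).index := by
    have h2 : H ⊓ Subgroup.centralizer (P : Set X) =
        (P ⊔ Subgroup.centralizer (P : Set X)) ⊓ H := by
      apply le_antisymm
      · exact fun x hx => ⟨Subgroup.mem_sup_right hx.2, hx.1⟩
      · exact fun x hx => ⟨hx.2, mem_centralizer_of_mem_sup hP hH hx.2 hx.1⟩
    rw [h2, Subgroup.inf_relIndex_right, ← Subgroup.relIndex_sup_right,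
      ← Subgroup.relIndex_top_right]
    congr 1
    rw [eq_top_iff, ← hc.sup_eq_top]
    exact sup_le (le_sup_left.trans le_sup_right) le_sup_left
  rw [h1]
  refine hW h ?_ fun h2 => hhL ⟨hh, h2⟩
  exact fun h2 => hH (h2.trans (Subgroup.orderOf_dvd_natCard H hh))

end normal

section sylow

variable {G : Type u} [Group G] [Finite G] {p : ℕ} [hp : Fact p.Prime] {M : Ideal AlgInt}

omit [Finite G] hp in
theorem mem_cent_iff {P X : Subgroup G} (hPX : P ≤ X) {x : X} :
    x ∈ Subgroup.centralizer ((P.subgroupOf X : Subgroup X) : Set X) ↔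
      (x : G) ∈ Subgroup.centralizer (P : Set G) := by
  rw [Subgroup.mem_centralizer_iff, Subgroup.mem_centralizer_iff]
  constructor
  · intro h y hy
    exact congrArg Subtype.val (h ⟨y, hPX hy⟩ hy)
  · intro h y hy
    exact Subtype.ext (h y hy)

omit [Finite G] hp in
theorem card_inf_cent {P X : Subgroup G} (hPX : P ≤ X) (g : X) :
    Nat.card ↥(P.subgroupOf X ⊓ Subgroup.centralizer {g}) =
      Nat.card ↥(P ⊓ Subgroup.centralizer {(g : G)}) := by
  refine Nat.card_congr ⟨fun y => ⟨(y : X), Subgroup.mem_inf.2 ⟨(Subgroup.mem_inf.1 y.2).1, ?_⟩⟩,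
    fun y => ⟨⟨y, hPX (Subgroup.mem_inf.1 y.2).1⟩,
      Subgroup.mem_inf.2 ⟨(Subgroup.mem_inf.1 y.2).1, ?_⟩⟩,
    fun y => rfl, fun y => rfl⟩
  · rw [Subgroup.mem_centralizer_singleton_iff]
    exact congrArg Subtype.val
      (Subgroup.mem_centralizer_singleton_iff.1 (Subgroup.mem_inf.1 y.2).2)
  · rw [Subgroup.mem_centralizer_singleton_iff]
    exact Subtype.ext (Subgroup.mem_centralizer_singleton_iff.1 (Subgroup.mem_inf.1 y.2).2)

theorem formBd_sub (hM : IsPModular p M) (P : Sylow p G) {X : Subgroup G}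
    (hPX : (P : Subgroup G) ≤ X) (hCX : Subgroup.centralizer ((P : Subgroup G) : Set G) ≤ X)
    (hN : X ≤ Subgroup.normalizer ((P : Subgroup G) : Set G)) {f : Set (IrrCharacter X)}
    (hf : IsPBlock M f)
    (he : ∀ g : G, g ∈ X → (orderOf g).Coprime p →
      g ∉ Subgroup.centralizer ((P : Subgroup G) : Set G) →
      (((P : Subgroup G) ⊔ Subgroup.centralizer ((P : Subgroup G) : Set G)).relIndex X + 1) *
          Nat.card ↥((P : Subgroup G) ⊓ Subgroup.centralizer {g}) ≤ Nat.card (P : Subgroup G)) :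
    FormBd p f (Nat.card (P : Subgroup G)) := by
  have hP'n : ((P : Subgroup G).subgroupOf X).Normal := by
    rw [Subgroup.normal_subgroupOf_iff_le_normalizer hPX]
    exact hN
  have hcard : Nat.card ((P : Subgroup G).subgroupOf X) = Nat.card (P : Subgroup G) :=
    Nat.card_congr (Subgroup.subgroupOfEquivOfLe hPX).toEquiv
  have hsup : (P : Subgroup G).subgroupOf X ⊔
      Subgroup.centralizer (((P : Subgroup G).subgroupOf X : Subgroup X) : Set X) =
      ((P : Subgroup G) ⊔ Subgroup.centralizer ((P : Subgroup G) : Set G)).subgroupOf X := by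
    have h1 : Subgroup.centralizer (((P : Subgroup G).subgroupOf X : Subgroup X) : Set X) =
        (Subgroup.centralizer ((P : Subgroup G) : Set G)).subgroupOf X := by
      ext x
      rw [mem_cent_iff hPX, Subgroup.mem_subgroupOf]
    rw [h1, Subgroup.subgroupOf_sup hPX hCX]
  rw [← hcard]
  refine formBd_of_normal hM hf ?_ ?_ ?_
  · exact P.isPGroup'.comap_of_injective _ (Subgroup.subtype_injective _)
  · intro h
    exact P.not_dvd_index (h.trans (Subgroup.relIndex_dvd_index_of_le hPX))
  · intro g hg hgC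
    have h1 := he (g : G) g.2 (by
      rw [Subgroup.orderOf_coe]
      exact ((Nat.Prime.coprime_iff_not_dvd hp.out).2 hg).symm)
      (fun h => hgC ((mem_cent_iff hPX).2 h))
    rw [hcard, hsup, card_inf_cent hPX]
    exact h1

/-- **One subsection.** -/
theorem card_block_le_of_normalizes (hM : IsPModular p M) (P : Sylow p G)
    {B : Set (IrrCharacter G)} (hB : IsPBlock M B) (hBP : IsDefectGroup p M B (P : Subgroup G))
    {z : G} (hz : z ∈ (P : Subgroup G))
    (hzc : z ∈ Subgroup.centralizer ((P : Subgroup G) : Set G))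
    (hzN : Subgroup.centralizer {z} ≤ Subgroup.normalizer ((P : Subgroup G) : Set G))
    (he : ∀ g : G, g ∈ Subgroup.centralizer {z} → (orderOf g).Coprime p →
      g ∉ Subgroup.centralizer ((P : Subgroup G) : Set G) →
      (((P : Subgroup G) ⊔ Subgroup.centralizer ((P : Subgroup G) : Set G)).relIndex
        (Subgroup.centralizer {z}) + 1) *
          Nat.card ↥((P : Subgroup G) ⊓ Subgroup.centralizer {g}) ≤ Nat.card (P : Subgroup G)) :
    Nat.card B ≤ Nat.card (P : Subgroup G) := by
  obtain ⟨f, U, hU, hs, -⟩ := H624.Asm.exists_situation hM hB hBP hz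
    (fun w hw => Subgroup.mem_centralizer_iff.1 hzc w hw)
  refine card_le_of_formBd hM hs.ord rfl hs.ind hs.defect
    (formBd_sub hM P hs.le_cent ?_ hzN hs.ind.1 he)
  intro c hc
  rw [Subgroup.mem_centralizer_singleton_iff]
  exact (Subgroup.mem_centralizer_iff.1 hc z hz).symm

/-- **THEOREM A** (S4821 (i) for suitable `z`). -/
theorem card_block_le {G : Type*} [Group G] [Finite G] (p : ℕ) [Fact p.Prime]
    (M : Ideal Cfsg.AlgInt) (hM : Cfsg.IsPModular p M) (P : Sylow p G)
    (hTI : ∀ g : G, g ∉ Subgroup.normalizer ((P : Subgroup G) : Set G) →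
      (P : Subgroup G) ⊓ (MulAut.conj g • (P : Subgroup G)) = ⊥)
    (B : Set (Cfsg.IrrCharacter G)) (hB : Cfsg.IsPBlock M B)
    (hBP : Cfsg.IsDefectGroup p M B P) (z : G) (hz : z ∈ (P : Subgroup G)) (hz1 : z ≠ 1)
    (hzc : z ∈ Subgroup.centralizer ((P : Subgroup G) : Set G))
    (he : ∀ g : G, g ∈ Subgroup.centralizer {z} → (orderOf g).Coprime p →
      g ∉ Subgroup.centralizer ((P : Subgroup G) : Set G) →
      (((P : Subgroup G) ⊔ Subgroup.centralizer ((P : Subgroup G) : Set G)).relIndex
        (Subgroup.centralizer {z}) + 1) *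
          Nat.card ↥((P : Subgroup G) ⊓ Subgroup.centralizer {g}) ≤ Nat.card (P : Subgroup G)) :
    Nat.card B ≤ Nat.card (P : Subgroup G) := by
  refine card_block_le_of_normalizes hM P hB hBP hz hzc ?_ he
  intro g hg
  by_contra h
  have h1 := hTI g h
  have h2 : z ∈ (P : Subgroup G) ⊓ (MulAut.conj g • (P : Subgroup G)) := by
    refine Subgroup.mem_inf.2 ⟨hz, ?_⟩
    rw [Subgroup.mem_smul_pointwise_iff_exists]
    refine ⟨z, hz, ?_⟩
    rw [MulAut.smul_def, MulAut.conj_apply, Subgroup.mem_centralizer_singleton_iff.1 hg,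
      mul_inv_cancel_right]
  rw [h1, Subgroup.mem_bot] at h2
  exact hz1 h2

end sylow

end Cfsg.Agent.H709.TI
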