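import Mathlib
import Cfsg.Agent.H709.TI.Main
import Cfsg.Agent.H616.TI.Defs

/-!
# S4821: the goals `GoalForm` and `GoalCrit` of `H616/TI/Defs.lean`
-/

set_option autoImplicit false

namespace Cfsg.Agent.H709.TI

open Cfsg

universe u

theorem goalForm : H616.TI.GoalForm.{u} := by
  intro H _ _ p hp M hM P hn hW b hb
  exact formBd_of_normal (P := (P : Subgroup H)) hM hb P.isPGroup' P.not_dvd_index hW

theorem goalCrit : H616.TI.GoalCrit.{u} := by
  intro G _ _ p hp M hM P z hz hzN B hB hBP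
  obtain ⟨h1, h2, h3, h4⟩ := hz
  refine card_block_le_of_normalizes hM P hB hBP h1 h3 hzN fun g hg hgp hgC => ?_
  exact h4 g hg ((Nat.Prime.coprime_iff_not_dvd hp.out).1 hgp.symm) hgC

end Cfsg.Agent.H709.TI
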